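import Groth.Agent.GaetaPtsLib.Vanish
import Groth.Agent.NefH1Lib.Koszul
import Groth.Agent.NefH1Lib.Embed
import Groth.Agent.MultSecLib.Basic
import Groth.Agent.SurfExtLib.Bidual

/-!
# Multiplication of sections from vanishing of the syzygy twist
-/

set_option autoImplicit false
set_option maxHeartbeats 2000000
set_option linter.style.haveILetI false
set_option backward.isDefEq.respectTransparency false
set_option backward.isDefEq.respectTransparency.types false

universe u

open CategoryTheory CategoryTheory.Limits AlgebraicGeometry TopologicalSpace Opposite MonoidalCategory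
open AmpleLib (shT res)
open SurfExtLib (tensSwap_shTm)

noncomputable section

namespace SyzMultLib

variable {X : Scheme.{u}}

/-- A short exact sequence with locally free quotient stays exact after tensoring. -/
theorem shortExact_tensor_right (E : X.Modules) {S : ShortComplex X.Modules} (h₃ : FlatMod.IsFinLocFree S.X₃)
    (hS : S.ShortExact) : (S.map (CurvLib.tensorLeft' E)).ShortExact := by
  refine CurvLib.shortExact_of_stalks _ fun x => ?_
  let R := X.presheaf.stalk x
  haveI : Module.Free R ((DevissLib.St x).obj S.X₃) := MiscFlat6.free_stalk_of_isFinLocFree h₃ x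
  have hx := hS.map_of_exact (DevissLib.St x)
  haveI : Projective (S.map (DevissLib.St x)).X₃ :=
    (IsProjective.iff_projective ((DevissLib.St x).obj S.X₃)).mp inferInstance
  let T := (S.map (DevissLib.St x)).map (MonoidalCategory.tensorLeft ((DevissLib.St x).obj E))
  have hT : T.ShortExact :=
    (hx.splittingOfProjective.map (MonoidalCategory.tensorLeft ((DevissLib.St x).obj E))).shortExact
  exact ShortComplex.shortExact_of_iso
    (ShortComplex.isoMk (KFlatLib.stalkTensorIso E S.X₁ x) (KFlatLib.stalkTensorIso E S.X₂ x)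
      (KFlatLib.stalkTensorIso E S.X₃ x)
      (KFlatLib.stalkTensorIso_natural_right (M := E) x S.f).symm
      (KFlatLib.stalkTensorIso_natural_right (M := E) x S.g).symm :
      T ≅ (S.map (CurvLib.tensorLeft' E)).map (DevissLib.St x)) hT

theorem eq_unitHom {M : X.Modules} (φ : Coh.structureModule X ⟶ M) :
    φ = QCohLib.unitHom M (φ.app ⊤ (1 : Γ(X, ⊤))) := by
  refine Scheme.Modules.hom_ext _ _ fun V => ConcreteCategory.hom_ext _ _ fun r => ?_
  refine Eq.trans ?_ (QCohLib.unitHom_app M _ V r).symm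
  refine Eq.trans ?_ (congrArg ((show Γ(X, V) from r) • ·) (QCohLib.app_map φ (homOfLE (le_top : V ≤ ⊤)) (1 : Γ(X, ⊤))))
  refine Eq.trans ?_ (QCohLib.app_smul φ V (show Γ(X, V) from r) _)
  refine congrArg (φ.app V) ?_
  exact (mul_one (show Γ(X, V) from r)).symm.trans
    (congrArg ((show Γ(X, V) from r) * ·) (map_one (X.presheaf.map (homOfLE (le_top : V ≤ ⊤)).op).hom).symm)

theorem mult_of_h1 (k : Type u) [Field k] [X.Over (Spec (CommRingCat.of k))]
    [IsProper (X ↘ Spec (CommRingCat.of k))] (L : X.Modules) (hL : PicF.IsInvertible L)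
    (J : Type u) (ev : (SheafOfModules.free J : X.Modules) ⟶ L) [Epi ev]
    (N : X.Modules) (hvan : Subsingleton (Coh.HH X (CohB1.tensorMod N (kernel ev)) 1)) :
    MultSecLib.Mult L N := by
  classical
  obtain ⟨m, v, hspan'⟩ := NefH1Lib.exists_span (X ↘ Spec (CommRingCat.of k)) (CurvLib.isCoh_of_isInvertible hL)
  have hspan : ∀ σ : Γ(L, ⊤), ∃ c : Fin (m + 1) → Γ(X, ⊤), σ = ∑ l, c l • v l := fun σ => by
    obtain ⟨c, hc⟩ := hspan' σ
    exact ⟨_, hc⟩
  let ιj : J → (Coh.structureModule X ⟶ L) := fun j => SheafOfModules.ιFree j ≫ ev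
  let a : J → Γ(L, ⊤) := fun j => (ιj j).app ⊤
    (show Γ(Coh.structureModule X, ⊤) from (1 : Γ(X, ⊤)))
  choose c hc using fun j => hspan (a j)
  let b : J → Γ(NefH1Lib.freeFin X (m + 1), ⊤) := fun j => ∑ l, c j l • NefH1Lib.bas X l ⊤
  let h : (SheafOfModules.free J : X.Modules) ⟶ NefH1Lib.freeFin X (m + 1) :=
    (NefH1Lib.freeFin X (m + 1)).freeHomEquiv.symm fun j => QCohLib.toSections _ (b j)
  have hh : h ≫ NefH1Lib.combHom v = ev := by
    refine Cofan.IsColimit.hom_ext (SheafOfModules.isColimitFreeCofan J) _ _ fun j => ?_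
    show SheafOfModules.ιFree j ≫ h ≫ NefH1Lib.combHom v = SheafOfModules.ιFree j ≫ ev
    refine (Category.assoc _ _ _).symm.trans ?_
    refine (congrArg (· ≫ NefH1Lib.combHom v) (QCohLib.ιFree_comp b j)).trans ?_
    refine (QCohLib.app_unitHom_app (NefH1Lib.combHom v) (b j)).trans ?_
    refine Eq.trans ?_ (eq_unitHom (ιj j)).symm
    refine congrArg (QCohLib.unitHom L) ?_
    rw [map_sum]
    refine Eq.trans ?_ (hc j).symm
    refine Finset.sum_congr rfl fun l _ => ?_
    rw [QCohLib.app_smul, NefH1Lib.combHom_bas]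
    exact congrArg (c j l • ·) (AmpleLib.res_refl L _)
  let T : X.Modules ⥤ X.Modules := (DCoh.tensorBi (X := X)).obj N
  have hS := shortExact_tensor_right N (S := ShortComplex.mk (kernel.ι ev) ev (kernel.condition ev))
    (AmpleDevLib.isFinLocFree_of_isInvertible hL) (ShortComplex.ShortExact.mk (ShortComplex.exact_kernel ev))
  intro τ
  let τ' : Γ(CohB1.tensorMod N L, ⊤) := (KFlatLib.tensSwap N L).hom.app ⊤ τ
  obtain ⟨y, hy⟩ := LichtLib.surjective_g hS hvan ((DegPullLib.e0 (CohB1.tensorMod N L)).symm τ')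
  let z₀ : Γ(T.obj (SheafOfModules.free J : X.Modules), ⊤) := DegPullLib.e0 _ y
  have hz₀ : (T.map ev).app ⊤ z₀ = τ' :=
    (NefH1Lib.e0_map (T.map ev) y).symm.trans
      ((congrArg (DegPullLib.e0 _) hy).trans (AddEquiv.apply_symm_apply _ _))
  let z : Γ(T.obj (NefH1Lib.freeFin X (m + 1)), ⊤) := (T.map h).app ⊤ z₀
  have hz : (T.map (NefH1Lib.combHom v)).app ⊤ z = τ' := by
    rw [← hz₀, ← hh, Functor.map_comp]
    rfl
  obtain ⟨μ, hμ, hμ'⟩ := SerreVanLib.exists_unit_iso N
  let w : Fin (m + 1) → Γ(N, ⊤) := fun l =>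
    μ.app ⊤ ((T.map (biproduct.π (fun _ : Fin (m + 1) => Coh.structureModule X) l)).app ⊤ z)
  have hdec : T.map (NefH1Lib.combHom v) = ∑ l : Fin (m + 1),
      T.map (biproduct.π (fun _ : Fin (m + 1) => Coh.structureModule X) l) ≫ T.map (QCohLib.unitHom L (v l)) := by
    haveI : T.Additive := inferInstance
    rw [NefH1Lib.combHom, biproduct.desc_eq, Functor.map_sum]
    exact Finset.sum_congr rfl fun l _ => T.map_comp _ _
  have key : τ' = ∑ l, (shT (w l) (v l) : Γ(CohB1.tensorMod N L, ⊤)) := by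
    rw [← hz, hdec, NefH1Lib.app_finsum]
    refine Finset.sum_congr rfl fun l _ => ?_
    show (T.map (QCohLib.unitHom L (v l))).app ⊤
      ((T.map (biproduct.π (fun _ : Fin (m + 1) => Coh.structureModule X) l)).app ⊤ z) = _
    have h2 : ∀ a : Γ(CohB1.tensorMod N (Coh.structureModule X), ⊤),
        a = shT (μ.app ⊤ a) (show Γ(Coh.structureModule X, ⊤) from (1 : Γ(X, ⊤))) := fun a => by
      haveI := hμ
      refine (ConcreteCategory.bijective_of_isIso (μ.app ⊤)).1 ?_
      exact ((hμ' ⊤ _ _).trans (one_smul Γ(X, ⊤) _)).symm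
    rw [h2 ((T.map (biproduct.π (fun _ : Fin (m + 1) => Coh.structureModule X) l)).app ⊤ z)]
    refine (KFlatLib.tensorBi_map₂_shTm N (QCohLib.unitHom L (v l)) _ _).trans (congrArg (shT (w l)) ?_)
    rw [QCohLib.unitHom_app, one_smul]
    exact AmpleLib.res_refl L _
  have hτ : τ = ∑ l, (shT (v l) (w l) : Γ(CohB1.tensorMod L N, ⊤)) := by
    refine (ConcreteCategory.bijective_of_isIso ((KFlatLib.tensSwap N L).hom.app ⊤)).1 ?_
    rw [map_sum]
    exact key.trans (Finset.sum_congr rfl fun l _ => (tensSwap_shTm N L (v l) (w l)).symm)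
  rw [hτ]
  clear key hτ
  induction (Finset.univ : Finset (Fin (m + 1))) using Finset.induction_on with
  | empty => exact ⟨0, MultSecLib.shApp_zero L N ⊤⟩
  | insert l s hl ih =>
    obtain ⟨p, hp⟩ := ih
    obtain ⟨q, hq⟩ : ∃ q, KFlatLib.shApp L N ⊤ q = shT (v l) (w l) := ⟨_, rfl⟩
    refine ⟨q + p, ?_⟩
    rw [Finset.sum_insert hl]
    exact (KFlatLib.shApp_add L N ⊤ q p).trans (congr_arg₂ (· + ·) hq hp)

end SyzMultLib
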